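import Groth.Agent.L28.FinCovCrit.Zero
import Groth.Agent.L27.DerBC.Killed

/-! # Truncated comparison from constant coefficients of `ℓ`-groups on finite covers -/

set_option autoImplicit false
set_option linter.style.haveILetI false
set_option linter.unusedSectionVars false
set_option backward.isDefEq.respectTransparency.types false

universe u

open CategoryTheory CategoryTheory.Limits AlgebraicGeometry Opposite CategoryTheory.Abelian DirectSum

noncomputable section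

namespace Groth.L28.FinCovCrit

open Groth.L27 Groth.L27.LimCoh Groth.L27.PBC Groth.L27.DerBC

variable {X Z : Scheme.{u}}

theorem primesIn_pow {ℓ : ℕ} (hℓ : ℓ.Prime) (a : ℕ) : EtAcyc.PrimesIn {ℓ} (ℓ ^ a) :=
  ⟨pow_pos hℓ.pos a, fun _ hp hd => (Nat.prime_dvd_prime_iff_eq hp hℓ).1 (hp.dvd_of_dvd_pow hd)⟩

theorem exists_pow_of_primesIn {ℓ m : ℕ} (hm : EtAcyc.PrimesIn {ℓ} m) : ∃ a, m = ℓ ^ a :=
  ⟨_, Nat.eq_prime_pow_of_unique_prime_dvd hm.1.ne' fun hp hd => hm.2 _ hp hd⟩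

theorem killed_pow_iff {ℓ : ℕ} (hℓ : ℓ.Prime) {F : EtCoh.Ab X} :
    Killed {ℓ} F ↔ ∃ a, ℓ ^ a • 𝟙 F = 0 :=
  ⟨fun ⟨m, hm, h⟩ => let ⟨a, ha⟩ := exists_pow_of_primesIn hm; ⟨a, ha ▸ h⟩,
    fun ⟨a, h⟩ => ⟨_, primesIn_pow hℓ a, h⟩⟩

theorem nsmul_eq_zero_mono {F : EtCoh.Ab X} {ℓ a b : ℕ} (hab : a ≤ b) (h : ℓ ^ a • 𝟙 F = 0) : ℓ ^ b • 𝟙 F = 0 := by
  rw [← Nat.sub_add_cancel hab, pow_add, mul_nsmul', h, smul_zero]

theorem nsmul_hom_apply {A B : AddCommGrpCat.{u + 1}} (f : A ⟶ B) (n : ℕ) (x : A) : (n • f) x = n • f x := by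
  induction n with
  | zero => rw [zero_nsmul, zero_nsmul]; rfl
  | succ n ih => rw [succ_nsmul, succ_nsmul, ← ih]; rfl

theorem HF_map_zero_apply {F : EtCoh.Ab X} (G : EtCoh.Ab X) (q : ℕ) (e : EtCoh.H X F q) :
    (EtCoh.HF X q).map (0 : F ⟶ G) e = 0 := by
  haveI := L28.CurveCd.HF_additive X q
  rw [Functor.map_zero]
  rfl

theorem sum_total (P : EtCoh.Ab X) {m : ℕ} (Q : Fin m → EtCoh.Ab X) (π : ∀ k, P ⟶ Q k) (ι : ∀ k, Q k ⟶ P)
    (e : ∑ k, π k ≫ ι k = 𝟙 P) (q : ℕ) (c : EtCoh.H X P q) :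
    ∑ k, (EtCoh.HF X q).map (ι k) ((EtCoh.HF X q).map (π k) c) = c := by
  haveI := L28.CurveCd.HF_additive X q
  have := congrArg (fun φ => (EtCoh.HF X q).map φ c) e
  simp only [Functor.map_sum, CategoryTheory.Functor.map_id] at this
  refine Eq.trans ?_ (((hom_sum_apply _ _ _).symm.trans this).trans rfl)
  exact Finset.sum_congr rfl fun k _ => (HF_map_comp (π k) (ι k) q c).symm

variable (i : Z ⟶ X) [PreservesFiniteLimits (EtCoh.pull i)]

theorem injective_of_decomp (P : EtCoh.Ab X) {m : ℕ} (Q : Fin m → EtCoh.Ab X) (π : ∀ k, P ⟶ Q k)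
    (ι : ∀ k, Q k ⟶ P) (e : ∑ k, π k ≫ ι k = 𝟙 P) (q : ℕ)
    (h : ∀ k, Function.Injective (EtCore.Hpull i (Q k) q)) : Function.Injective (EtCore.Hpull i P q) := by
  refine (injective_iff_map_eq_zero _).2 fun a ha => ?_
  rw [← sum_total P Q π ι e q a]
  refine Finset.sum_eq_zero fun k _ => ?_
  rw [show (EtCoh.HF X q).map (π k) a = 0 from
    h k (((Hpull_map i (π k) q a).trans ((congrArg _ ha).trans (map_zero _))).trans (map_zero _).symm)]
  exact map_zero _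

theorem surjective_of_decomp (P : EtCoh.Ab X) {m : ℕ} (Q : Fin m → EtCoh.Ab X) (π : ∀ k, P ⟶ Q k)
    (ι : ∀ k, Q k ⟶ P) (e : ∑ k, π k ≫ ι k = 𝟙 P) (q : ℕ)
    (h : ∀ k, Function.Surjective (EtCore.Hpull i (Q k) q)) : Function.Surjective (EtCore.Hpull i P q) := by
  haveI : (EtCoh.pull i).Additive := (EtCoh.pullPushAdj i).left_adjoint_additive
  intro c
  choose y hy using fun k => h k ((EtCoh.HF Z q).map ((EtCoh.pull i).map (π k)) c)
  refine ⟨∑ k, (EtCoh.HF X q).map (ι k) (y k), ?_⟩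
  rw [map_sum]
  have e' : ∑ k, (EtCoh.pull i).map (π k) ≫ (EtCoh.pull i).map (ι k) = 𝟙 ((EtCoh.pull i).obj P) := by
    simp only [← Functor.map_comp, ← Functor.map_sum, e, CategoryTheory.Functor.map_id]
  refine Eq.trans ?_ (sum_total _ (fun k => (EtCoh.pull i).obj (Q k)) _ _ e' q c)
  exact Finset.sum_congr rfl fun k _ => (Hpull_map i (ι k) q (y k)).trans (congrArg _ (hy k))

theorem cyclic_decomp (ℓ : ℕ) (hℓ : ℓ.Prime) (M : Type) [AddCommGroup M] [Finite M] (A : ℕ)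
    (hA : ∀ x : M, ℓ ^ A • x = 0) :
    ∃ (m : ℕ) (e : Fin m → ℕ) (π : ∀ k, EtCoh.const X M ⟶ EtCoh.const X (ZMod (ℓ ^ e k)))
      (ι : ∀ k, EtCoh.const X (ZMod (ℓ ^ e k)) ⟶ EtCoh.const X M), ∑ k, π k ≫ ι k = 𝟙 (EtCoh.const X M) := by
  classical
  obtain ⟨ι₀, _, p, hp, e, ⟨ε⟩⟩ := AddCommGroup.equiv_directSum_zmod_of_finite M
  have hpe : ∀ j, ∃ b, p j ^ e j = ℓ ^ b := fun j => by
    rcases Nat.eq_zero_or_pos (e j) with he | he
    · exact ⟨0, by rw [he, pow_zero, pow_zero]⟩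
    · refine ⟨e j, ?_⟩
      have h1 : p j ^ e j ∣ ℓ ^ A := by
        rw [← ZMod.natCast_eq_zero_iff]
        have h2 := hA (ε.symm (DirectSum.of (fun j => ZMod (p j ^ e j)) j 1))
        rw [← map_nsmul, ← map_nsmul, AddEquiv.map_eq_zero_iff] at h2
        have h3 := DFunLike.congr_fun h2 j
        rw [DirectSum.of_eq_same, nsmul_eq_mul, mul_one] at h3
        exact h3
      rw [(Nat.prime_dvd_prime_iff_eq (hp j) hℓ).1 ((hp j).dvd_of_dvd_pow ((dvd_pow_self _ he.ne').trans h1))]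
  choose b hb using hpe
  let σ := (Fintype.equivFin ι₀).symm
  let c : ∀ j, ZMod (p j ^ e j) ≃+ ZMod (ℓ ^ b j) := fun j => (ZMod.ringEquivCongr (hb j)).toAddEquiv
  let π : ∀ j, M →+ ZMod (ℓ ^ b j) := fun j =>
    (c j).toAddMonoidHom.comp ((DFinsupp.evalAddMonoidHom j).comp ε.toAddMonoidHom)
  let κ : ∀ j, ZMod (ℓ ^ b j) →+ M := fun j =>
    (ε.symm.toAddMonoidHom.comp (DirectSum.of (fun j => ZMod (p j ^ e j)) j)).comp (c j).symm.toAddMonoidHom
  have hid : ∑ j, liftHom.{u} (π j) ≫ liftHom (κ j) = 𝟙 _ := by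
    refine ConcreteCategory.hom_ext _ _ fun m => (hom_sum_apply _ _ m).trans ?_
    obtain ⟨m⟩ := m
    refine ULift.ext _ _ (ε.injective ?_)
    refine Eq.trans (congrArg ε (map_sum (AddEquiv.ulift : ULift.{u + 1} M ≃+ M) _ _)) ?_
    rw [map_sum]
    refine Eq.trans ?_ (DirectSum.sum_univ_of (ε m))
    exact Finset.sum_congr rfl fun j _ => (ε.apply_symm_apply _).trans
      (congrArg (DirectSum.of (fun j => ZMod (p j ^ e j)) j) ((c j).symm_apply_apply _))
  refine ⟨Fintype.card ι₀, fun k => b (σ k), fun k => cMap X (π (σ k)), fun k => cMap X (κ (σ k)), ?_⟩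
  rw [Equiv.sum_comp σ (fun j => cMap X (π j) ≫ cMap X (κ j))]
  haveI := const_additive X
  simp only [cMap, ← Functor.map_comp, ← Functor.map_sum, hid, CategoryTheory.Functor.map_id]

theorem exists_embedding_primary [CompactSpace X] [QuasiSeparatedSpace X] {ℓ : ℕ} (hℓ : ℓ.Prime) {C : EtCoh.Ab X}
    (hC : EtPBC.IsConstructible C) {a : ℕ} (ha : ℓ ^ a • 𝟙 C = 0) :
    ∃ (m : ℕ) (Y : Fin m → Scheme.{u}) (f : ∀ k, Y k ⟶ X) (_ : ∀ k, IsFinite (f k))
      (M : Fin m → Type) (_ : ∀ k, AddCommGroup (M k)) (_ : ∀ k, Finite (M k)) (A : ℕ)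
      (_ : ∀ k (x : M k), ℓ ^ A • x = 0) (ι : C ⟶ ⨁ fun k => (EtCoh.push (f k)).obj (EtCoh.const (Y k) (M k))),
      Mono ι ∧ ℓ ^ A • 𝟙 (⨁ fun k => (EtCoh.push (f k)).obj (EtCoh.const (Y k) (M k))) = 0 := by
  classical
  obtain ⟨m, Y, f, hf, -, M, hM1, hM2, ι, hι⟩ := EmbedFinitePush.exists_embedding hC
  haveI := hι
  let N := ∏ k, Nat.card (M k)
  have hN : N ≠ 0 := Finset.prod_ne_zero_iff.2 fun k _ => Nat.card_pos.ne'
  obtain ⟨A, r, hr, hNr⟩ := Nat.exists_eq_pow_mul_and_not_dvd hN ℓ hℓ.ne_one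
  obtain ⟨t, -, ht⟩ := Nat.exists_mul_mod_eq_of_coprime 1
    (((hℓ.coprime_iff_not_dvd.2 hr).pow_left a).symm) (pow_ne_zero a hℓ.ne_zero)
  let n₀ := r * t
  have hmod : ∀ x : ℕ, x • 𝟙 C = (x % ℓ ^ a) • 𝟙 C := fun x => by
    conv_lhs => rw [← Nat.mod_add_div x (ℓ ^ a)]
    rw [add_nsmul, mul_comm (ℓ ^ a), mul_nsmul', ha, smul_zero, add_zero]
  have hn₀ : n₀ • 𝟙 C = 𝟙 C := by
    refine ((hmod n₀).trans ?_).trans (one_nsmul _)
    rw [hmod 1]
    exact congrArg (· • 𝟙 C) ht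
  let M' : Fin m → Type := fun k => (nsmulAddMonoidHom n₀ : M k →+ M k).range
  letI : ∀ k, AddCommGroup (M' k) := fun k => inferInstanceAs (AddCommGroup (nsmulAddMonoidHom n₀ : M k →+ M k).range)
  haveI : ∀ k, Finite (M' k) := fun k => inferInstanceAs (Finite (nsmulAddMonoidHom n₀ : M k →+ M k).range)
  have hA : ∀ k (x : M' k), ℓ ^ A • x = 0 := by
    rintro k ⟨_, y, rfl⟩
    refine Subtype.ext ?_
    show ℓ ^ A • (r * t) • y = 0
    obtain ⟨s, hs⟩ : Nat.card (M k) ∣ N := Finset.dvd_prod_of_mem _ (Finset.mem_univ k)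
    rw [← mul_nsmul', ← mul_assoc, ← hNr, hs, mul_assoc, mul_nsmul, card_nsmul_eq_zero', smul_zero]
  let φ : ∀ k, M k →+ M' k := fun k => AddMonoidHom.rangeRestrict _
  let ψ : ∀ k, M' k →+ M k := fun k => AddSubgroup.subtype _
  let P' : EtCoh.Ab X := ⨁ fun k => (EtCoh.push (f k)).obj (EtCoh.const (Y k) (M' k))
  let α : (⨁ fun k => (EtCoh.push (f k)).obj (EtCoh.const (Y k) (M k))) ⟶ P' :=
    biproduct.map fun k => (EtCoh.push (f k)).map (cMap (Y k) (φ k))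
  let β : P' ⟶ ⨁ fun k => (EtCoh.push (f k)).obj (EtCoh.const (Y k) (M k)) :=
    biproduct.map fun k => (EtCoh.push (f k)).map (cMap (Y k) (ψ k))
  have hαβ : α ≫ β = n₀ • 𝟙 _ := by
    refine biproduct.hom_ext' _ _ fun k => ?_
    haveI := const_additive (Y k)
    haveI : (EtCoh.push (f k)).Additive := (EtCoh.pullPushAdj (f k)).right_adjoint_additive
    have e : liftHom.{u} (φ k) ≫ liftHom (ψ k) = n₀ • 𝟙 _ :=
      ConcreteCategory.hom_ext _ _ fun x => (ULift.ext _ _ rfl).trans (nsmul_hom_apply (𝟙 _) n₀ x).symm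
    simp only [α, β, biproduct.ι_map_assoc, biproduct.ι_map, Preadditive.comp_nsmul, Category.comp_id,
      ← Functor.map_comp_assoc, cMap, ← Functor.map_comp, e, Functor.map_nsmul, CategoryTheory.Functor.map_id,
      Preadditive.nsmul_comp, Category.id_comp]
  haveI : Mono (ι ≫ α) := by
    refine mono_of_mono_fac (show (ι ≫ α) ≫ β = ι from ?_)
    rw [Category.assoc, hαβ, Preadditive.comp_nsmul, Category.comp_id, ← Category.id_comp ι,
      ← Preadditive.nsmul_comp, hn₀]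
  refine ⟨m, Y, f, hf, M', inferInstance, inferInstance, A, hA, ι ≫ α, inferInstance, ?_⟩
  refine biproduct.hom_ext' _ _ fun k => ?_
  haveI := const_additive (Y k)
  haveI : (EtCoh.push (f k)).Additive := (EtCoh.pullPushAdj (f k)).right_adjoint_additive
  have e : ℓ ^ A • 𝟙 (AddCommGrpCat.of (ULift.{u + 1} (M' k))) = 0 :=
    ConcreteCategory.hom_ext _ _ fun x => (nsmul_hom_apply _ _ x).trans (ULift.ext _ _ (hA k x.down))
  have e' := congrArg (fun φ => (EtCoh.push (f k)).map ((constantSheaf (Y k).smallEtaleTopology AddCommGrpCat.{u + 1}).map φ)) e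
  simp only [Functor.map_nsmul, Functor.map_zero, CategoryTheory.Functor.map_id] at e'
  rw [Preadditive.comp_nsmul, Category.comp_id, comp_zero, ← Category.id_comp (biproduct.ι _ k),
    ← Preadditive.nsmul_comp]
  exact (congrArg (fun t => t ≫ biproduct.ι (fun k => (EtCoh.push (f k)).obj (EtCoh.const (Y k) (M' k))) k) e').trans zero_comp

section Killed

variable [CompactSpace X] [QuasiSeparatedSpace X] [CompactSpace Z] [QuasiSeparatedSpace Z] {ℓ : ℕ} (hℓ : ℓ.Prime)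
  (n : ℕ)
  (hi0 : ∀ (X' : Scheme.{u}) (p : X' ⟶ X) [IsFinite p] [PreservesFiniteLimits (EtCoh.pull (pullback.fst p i))]
    (ν : ℕ), Function.Injective (EtCore.Hpull (pullback.fst p i) (EtCoh.const X' (ZMod (ℓ ^ ν))) 0))
  (hs : ∀ (X' : Scheme.{u}) (p : X' ⟶ X) [IsFinite p] [PreservesFiniteLimits (EtCoh.pull (pullback.fst p i))]
    (ν q : ℕ), q ≤ n → Function.Surjective (EtCore.Hpull (pullback.fst p i) (EtCoh.const X' (ZMod (ℓ ^ ν))) q))

/-- The properties of the embedded sum. -/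
structure GoodPush (P : EtCoh.Ab X) : Prop where
  inj : Function.Injective (EtCore.Hpull i P 0)
  surj : ∀ q ≤ n, Function.Surjective (EtCore.Hpull i P q)
  killed : Killed {ℓ} P

include hℓ hi0 hs in
theorem exists_good_embedding {C : EtCoh.Ab X} (hC : EtPBC.IsConstructible C) (hk : Killed {ℓ} C) :
    ∃ (P : EtCoh.Ab X) (ι : C ⟶ P), Mono ι ∧ GoodPush i n (ℓ := ℓ) P := by
  obtain ⟨a, ha⟩ := (killed_pow_iff hℓ).1 hk
  obtain ⟨m, Y, f, hf, M, hM1, hM2, A, hA, ι, hι, hP⟩ := exists_embedding_primary hℓ hC ha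
  refine ⟨_, ι, hι, ⟨?_, fun q hq => ?_, (killed_pow_iff hℓ).2 ⟨A, hP⟩⟩⟩
  · refine injective_of_decomp i _ _ (biproduct.π _) (biproduct.ι _) (IsBilimit.total (biproduct.isBilimit _)) 0 fun k => ?_
    haveI := hf k
    haveI := EtSite.preservesFiniteLimits_pull (pullback.fst (f k) i)
    obtain ⟨m', e, π, κ, h⟩ := cyclic_decomp (X := Y k) ℓ hℓ (M k) A (hA k)
    exact injective_push i (f k) _ 0 (injective_of_decomp _ _ _ π κ h 0 fun j => hi0 (Y k) (f k) (e j))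
  · refine surjective_of_decomp i _ _ (biproduct.π _) (biproduct.ι _) (IsBilimit.total (biproduct.isBilimit _)) q fun k => ?_
    haveI := hf k
    haveI := EtSite.preservesFiniteLimits_pull (pullback.fst (f k) i)
    obtain ⟨m', e, π, κ, h⟩ := cyclic_decomp (X := Y k) ℓ hℓ (M k) A (hA k)
    exact exists_preimage_push i (f k) _ q (surjective_of_decomp _ _ _ π κ h q fun j => hs (Y k) (f k) (e j) q hq)

/-- The part killed by `N` of a stage. -/
abbrev modN (N : ℕ) (C : EtCoh.Ab X) : EtCoh.Ab X := cokernel (N • 𝟙 C)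

theorem modN_spec {C F : EtCoh.Ab X} (hC : EtPBC.IsConstructible C) (c : C ⟶ F) {N : ℕ} (hN : N • 𝟙 F = 0) :
    EtPBC.IsConstructible (modN N C) ∧ N • 𝟙 (modN N C) = 0 ∧
      ∃ c' : modN N C ⟶ F, cokernel.π (N • 𝟙 C) ≫ c' = c := by
  refine ⟨(Strata.isConstructible_kernel_cokernel (N • 𝟙 C) hC hC).2, ?_, cokernel.desc _ c ?_, cokernel.π_desc _ _ _⟩
  · rw [← cancel_epi (cokernel.π (N • 𝟙 C)), Preadditive.comp_nsmul, Category.comp_id, comp_zero]
    have := cokernel.condition (N • 𝟙 C)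
    rwa [Preadditive.nsmul_comp, Category.id_comp] at this
  · rw [Preadditive.nsmul_comp, Category.id_comp, ← Category.comp_id c, ← Preadditive.comp_nsmul, hN, comp_zero]

theorem exists_stage (q : ℕ) {F : EtCoh.Ab X} {a : ℕ} (ha : ℓ ^ a • 𝟙 F = 0) (hℓ : ℓ.Prime)
    (ξ : EtCoh.H Z ((EtCoh.pull i).obj F) q) :
    ∃ (C : EtCoh.Ab X) (c : C ⟶ F) (η : EtCoh.H Z ((EtCoh.pull i).obj C) q),
      EtPBC.IsConstructible C ∧ Killed {ℓ} C ∧ (EtCoh.HF Z q).map ((EtCoh.pull i).map c) η = ξ := by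
  have hF : EtCoh.IsTorsion F :=
    AffineEfface.isTorsion_of_isLTorsion (Killed.isLTorsion ⟨_, primesIn_pow hℓ a, ha⟩)
  obtain ⟨hc⟩ := L28.ExtShriek.isColimit_presCocone (F := F) hF
  haveI : PreservesColimitsOfSize.{u + 1, u + 1} (EtCoh.pull i) :=
    (EtCoh.pullPushAdj i).leftAdjoint_preservesColimits
  obtain ⟨j, η, hη⟩ := (L28.ColimBig.commutes Colim.good (EtCore.topIsTerminal Z) ⟨‹_›, ‹_›⟩ q
    (L28.ExtShriek.presDiag F ⋙ EtCoh.pull i) ((EtCoh.pull i).mapCocone (L28.ExtShriek.presCocone F))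
    (isColimitOfPreserves (EtCoh.pull i) hc)).1 ξ
  obtain ⟨h1, h2, c', hc'⟩ := modN_spec (C := j.1.obj) j.1.isConstructible_obj ((L28.ExtShriek.presCocone F).ι.app j) ha
  refine ⟨_, c', (EtCoh.HF Z q).map ((EtCoh.pull i).map (cokernel.π (ℓ ^ a • 𝟙 j.1.obj))) η, h1,
    (killed_pow_iff hℓ).2 ⟨a, h2⟩, ?_⟩
  have e : (EtCoh.pull i).map (cokernel.π (ℓ ^ a • 𝟙 j.1.obj)) ≫ (EtCoh.pull i).map c' =
      (EtCoh.pull i).map ((L28.ExtShriek.presCocone F).ι.app j) := by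
    rw [← Functor.map_comp]; exact congrArg _ hc'
  exact (HF_map_comp _ _ q η).symm.trans ((congrArg (fun φ => (EtCoh.HF Z q).map φ η) e).trans
    ((HF_map_eq _ q η).trans hη))

include hℓ hi0 hs in
theorem injective_zero_killed (F : EtCoh.Ab X) (hk : Killed {ℓ} F) : Function.Injective (EtCore.Hpull i F 0) := by
  obtain ⟨a, ha⟩ := (killed_pow_iff hℓ).1 hk
  have hF : EtCoh.IsTorsion F := AffineEfface.isTorsion_of_isLTorsion hk.isLTorsion
  obtain ⟨hc⟩ := L28.ExtShriek.isColimit_presCocone (F := F) hF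
  haveI : PreservesColimitsOfSize.{u + 1, u + 1} (EtCoh.pull i) :=
    (EtCoh.pullPushAdj i).leftAdjoint_preservesColimits
  have cX := L28.ColimBig.commutes Colim.good (EtCore.topIsTerminal X) ⟨‹_›, ‹_›⟩ 0
    (L28.ExtShriek.presDiag F) (L28.ExtShriek.presCocone F) hc
  have cZ := L28.ColimBig.commutes Colim.good (EtCore.topIsTerminal Z) ⟨‹_›, ‹_›⟩ 0
    (L28.ExtShriek.presDiag F ⋙ EtCoh.pull i) ((EtCoh.pull i).mapCocone (L28.ExtShriek.presCocone F))
    (isColimitOfPreserves (EtCoh.pull i) hc)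
  refine (injective_iff_map_eq_zero _).2 fun x hx => ?_
  obtain ⟨j, η, rfl⟩ := cX.1 x
  obtain ⟨k, g, hg⟩ := cZ.2 j _ (((HF_map_eq _ 0 _).symm.trans (Hpull_map i _ 0 η).symm).trans
    ((congrArg (EtCore.Hpull i F 0) (HF_map_eq _ 0 η)).trans hx))
  let y : EtCoh.H X k.1.obj 0 := Sheaf.H.map ((L28.ExtShriek.presDiag F).map g) 0 η
  have hy : EtCore.Hpull i k.1.obj 0 y = 0 :=
    (congrArg (EtCore.Hpull i _ 0) (HF_map_eq _ 0 η).symm).trans ((Hpull_map i _ 0 η).trans ((HF_map_eq _ 0 _).trans hg))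
  obtain ⟨h1, h2, c', hc'⟩ := modN_spec (C := k.1.obj) k.1.isConstructible_obj ((L28.ExtShriek.presCocone F).ι.app k) ha
  obtain ⟨P, ι, hι, hP⟩ := exists_good_embedding i hℓ n hi0 hs h1 ((killed_pow_iff hℓ).2 ⟨a, h2⟩)
  haveI := hι
  have h0 : (EtCoh.HF X 0).map (cokernel.π (ℓ ^ a • 𝟙 k.1.obj)) y = 0 := by
    refine injective_HF_zero_of_mono ι (hP.inj ?_)
    refine (Hpull_map i ι 0 _).trans ((congrArg _ ((Hpull_map i _ 0 y).trans ((congrArg _ hy).trans
      (map_zero _)))).trans ?_)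
    exact (map_zero _).trans ((congrArg _ (map_zero _)).trans (map_zero _)).symm
  rw [← (L28.ExtShriek.presCocone F).w g, Sheaf.H.map_comp_apply]
  show Sheaf.H.map ((L28.ExtShriek.presCocone F).ι.app k) 0 y = 0
  refine (congrArg (fun t => Sheaf.H.map t 0 y) hc'.symm).trans ((Sheaf.H.map_comp_apply _ _ _).trans ?_)
  exact (congrArg _ ((HF_map_eq _ 0 y).symm.trans h0)).trans (map_zero _)

include hℓ hi0 hs in
theorem surjective_zero_killed (F : EtCoh.Ab X) (hk : Killed {ℓ} F) : Function.Surjective (EtCore.Hpull i F 0) := by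
  intro ξ
  obtain ⟨a, ha⟩ := (killed_pow_iff hℓ).1 hk
  obtain ⟨C, c, η, hC, hCk, rfl⟩ := exists_stage i 0 ha hℓ ξ
  obtain ⟨P, ι, hι, hP⟩ := exists_good_embedding i hℓ n hi0 hs hC hCk
  haveI := hι
  obtain ⟨y, hy⟩ := hP.surj 0 (Nat.zero_le n) ((EtCoh.HF Z 0).map ((EtCoh.pull i).map ι) η)
  let E := ShortComplex.mk ι (cokernel.π ι) (cokernel.condition ι)
  have hE : E.ShortExact := { exact := ShortComplex.exact_of_g_is_cokernel _ (cokernelIsCokernel ι) }
  have hQ : Killed {ℓ} (cokernel ι) := Killed.of_epi (cokernel.π ι) hP.killed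
  have h0 : (EtCoh.HF X 0).map (cokernel.π ι) y = 0 := by
    refine injective_zero_killed i hℓ n hi0 hs _ hQ ?_
    refine ((Hpull_map i (cokernel.π ι) 0 y).trans ((congrArg _ hy).trans
      ((HF_map_comp _ _ 0 η).symm.trans ?_))).trans (map_zero _).symm
    haveI : (EtCoh.pull i).Additive := (EtCoh.pullPushAdj i).left_adjoint_additive
    rw [← Functor.map_comp, cokernel.condition, Functor.map_zero]
    exact HF_map_zero_apply _ 0 η
  obtain ⟨x, hx⟩ := exists_HF_preimage hE 0 y h0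
  refine ⟨(EtCoh.HF X 0).map c x, (Hpull_map i c 0 x).trans (congrArg _ ?_)⟩
  refine injective_HF_zero_of_mono ((EtCoh.pull i).map ι) ?_
  rw [← hy, ← hx]
  exact (Hpull_map i ι 0 x).symm

include hℓ hi0 hs in
theorem exists_effacement_killed (q : ℕ) (hq : q + 1 ≤ n) (F : EtCoh.Ab X) (hk : Killed {ℓ} F)
    (ξ : EtCoh.H Z ((EtCoh.pull i).obj F) (q + 1)) :
    ∃ (F' : EtCoh.Ab X) (φ : F ⟶ F'), Mono φ ∧ Killed {ℓ} F' ∧
      (EtCoh.HF Z (q + 1)).map ((EtCoh.pull i).map φ) ξ = 0 := by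
  obtain ⟨a, ha⟩ := (killed_pow_iff hℓ).1 hk
  obtain ⟨C, c, η, hC, hCk, rfl⟩ := exists_stage i (q + 1) ha hℓ ξ
  obtain ⟨P, ι, hι, hP⟩ := exists_good_embedding i hℓ n hi0 hs hC hCk
  haveI := hι
  obtain ⟨b, hb⟩ := (killed_pow_iff hℓ).1 hP.killed
  have hF₁ : Killed {ℓ} (pushout c ι) := (killed_pow_iff hℓ).2 ⟨max a b, by
    refine pushout.hom_ext ?_ ?_
    · rw [Preadditive.comp_nsmul, Category.comp_id, comp_zero, ← Category.id_comp (pushout.inl c ι),
        ← Preadditive.nsmul_comp, nsmul_eq_zero_mono (le_max_left a b) ha, zero_comp]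
    · rw [Preadditive.comp_nsmul, Category.comp_id, comp_zero, ← Category.id_comp (pushout.inr c ι),
        ← Preadditive.nsmul_comp, nsmul_eq_zero_mono (le_max_right a b) hb, zero_comp]⟩
  obtain ⟨F', v, hv, hF', hF'v, -⟩ := exists_killed_effacement _ hF₁
  haveI : Mono (pushout.inl c ι) := inferInstance
  obtain ⟨x, hx⟩ := hP.surj (q + 1) hq ((EtCoh.HF Z (q + 1)).map ((EtCoh.pull i).map ι) η)
  refine ⟨F', pushout.inl c ι ≫ v, mono_comp _ _, hF', ?_⟩
  have e : (EtCoh.pull i).map c ≫ (EtCoh.pull i).map (pushout.inl c ι ≫ v) =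
      (EtCoh.pull i).map ι ≫ (EtCoh.pull i).map (pushout.inr c ι ≫ v) := by
    rw [← Functor.map_comp, ← Functor.map_comp, ← Category.assoc, pushout.condition, Category.assoc]
  refine (HF_map_comp ((EtCoh.pull i).map c) ((EtCoh.pull i).map (pushout.inl c ι ≫ v)) (q + 1) η).symm.trans ?_
  refine (congrArg (fun f => (EtCoh.HF Z (q + 1)).map f η) e).trans ?_
  refine (HF_map_comp _ _ (q + 1) η).trans ?_
  refine (congrArg _ hx.symm).trans ((Hpull_map i (pushout.inr c ι ≫ v) (q + 1) x).symm.trans ?_)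
  haveI := hF'v q
  exact (congrArg _ (Subsingleton.elim (α := EtCoh.H X F' (q + 1)) _ 0)).trans (map_zero _)

include hℓ hi0 hs in
theorem compN : EtAcyc.CompN i {ℓ} n := by
  refine compN_of_killed i {ℓ} n fun F hF => ?_
  have key : ∀ m ≤ n, ∀ F : EtCoh.Ab X, Killed {ℓ} F →
      Function.Bijective (EtCore.Hpull i F m) ∧ Function.Injective (EtCore.Hpull i F (m + 1)) := by
    have step : ∀ m ≤ n, (∀ F : EtCoh.Ab X, Killed {ℓ} F → Function.Bijective (EtCore.Hpull i F m)) →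
        ∀ F : EtCoh.Ab X, Killed {ℓ} F → Function.Injective (EtCore.Hpull i F (m + 1)) := by
      intro m _ hb F hF
      obtain ⟨G, v, hv, hG, hGv, -⟩ := exists_killed_effacement F hF
      haveI := hv
      have hE : (ShortComplex.mk v (cokernel.π v) (cokernel.condition v)).ShortExact :=
        { exact := ShortComplex.exact_of_g_is_cokernel _ (cokernelIsCokernel v) }
      refine (injective_iff_map_eq_zero _).2 fun x hx => ?_
      haveI := hGv m
      obtain ⟨y, rfl⟩ := exists_δH hE m x (Subsingleton.elim (α := EtCoh.H X G (m + 1)) _ _)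
      have hy := (Hpull_δH i hE m y).symm.trans hx
      obtain ⟨z, hz⟩ := exists_map_of_δH_eq_zero (hE.map_of_exact (EtCoh.pull i)) m _ hy
      obtain ⟨z', rfl⟩ := (hb G hG).2 z
      rw [(hb _ (Killed.of_epi (cokernel.π v) hG)).1 (hz.symm.trans (Hpull_map i (cokernel.π v) m z').symm)]
      exact δH_map_g hE m z'
    intro m
    induction m with
    | zero =>
      intro hm F hF
      exact ⟨⟨injective_zero_killed i hℓ n hi0 hs F hF, surjective_zero_killed i hℓ n hi0 hs F hF⟩,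
        step 0 hm (fun F hF => ⟨injective_zero_killed i hℓ n hi0 hs F hF, surjective_zero_killed i hℓ n hi0 hs F hF⟩) F hF⟩
    | succ m ih =>
      intro hm F hF
      have hb : ∀ F : EtCoh.Ab X, Killed {ℓ} F → Function.Bijective (EtCore.Hpull i F (m + 1)) := by
        intro F hF
        refine ⟨(ih (Nat.le_of_succ_le hm) F hF).2, fun ξ => ?_⟩
        obtain ⟨F', φ, hφ, hF', hξ⟩ := exists_effacement_killed i hℓ n hi0 hs m hm F hF ξ
        haveI := hφ
        have hE : (ShortComplex.mk φ (cokernel.π φ) (cokernel.condition φ)).ShortExact :=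
          { exact := ShortComplex.exact_of_g_is_cokernel _ (cokernelIsCokernel φ) }
        obtain ⟨y, rfl⟩ := exists_δH (hE.map_of_exact (EtCoh.pull i)) m ξ hξ
        obtain ⟨y', rfl⟩ := (ih (Nat.le_of_succ_le hm) _ (Killed.of_epi (cokernel.π φ) hF')).1.2 y
        exact ⟨δH hE m y', Hpull_δH i hE m y'⟩
      exact ⟨hb F hF, step (m + 1) hm hb F hF⟩
  exact ⟨fun q hq => (key q hq F hF).1, (key n le_rfl F hF).2⟩

end Killed

end Groth.L28.FinCovCrit
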