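import Groth.Agent.L27.PBC.CurveConst

/-! # Degree zero comparison from constant coefficients on finite covers -/

set_option autoImplicit false
set_option linter.style.haveILetI false
set_option linter.unusedSectionVars false
set_option backward.isDefEq.respectTransparency.types false

universe u

open CategoryTheory CategoryTheory.Limits AlgebraicGeometry Opposite DirectSum CategoryTheory.Abelian

noncomputable section

namespace Groth.L28.FinCovCrit

open Groth.L27 Groth.L27.LimCoh Groth.L27.PBC

variable {X Z : Scheme.{u}}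

theorem injective_HF_zero_of_mono {F G : EtCoh.Ab X} (φ : F ⟶ G) [Mono φ] :
    Function.Injective ((EtCoh.HF X 0).map φ) := fun a b h => by
  have e := congrArg (secEq G) h
  rw [secEq_map, secEq_map] at e
  haveI : Mono φ.hom := (sheafToPresheaf _ _).map_mono φ
  haveI : Mono (φ.hom.app (op (EtCoh.top X))) := (NatTrans.mono_iff_mono_app φ.hom).1 inferInstance _
  exact (secEq F).injective ((AddCommGrpCat.mono_iff_injective _).1 inferInstance e)

theorem exists_HF_preimage {E : ShortComplex (EtCoh.Ab X)} (hE : E.ShortExact) (n : ℕ)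
    (y : EtCoh.H X E.X₂ n) (h : (EtCoh.HF X n).map E.g y = 0) : ∃ x, (EtCoh.HF X n).map E.f x = y := by
  rw [EtSite.HF_map_apply] at h
  obtain ⟨x, hx⟩ := Ext.covariant_sequence_exact₂ _ hE y h
  exact ⟨x, (EtSite.HF_map_apply _ _ _).trans hx⟩

variable (i : Z ⟶ X) [PreservesFiniteLimits (EtCoh.pull i)]

theorem injective_zero_of_cyclic
    (h : ∀ p ν : ℕ, p.Prime → Function.Injective (EtCore.Hpull i (EtCoh.const X (ZMod (p ^ ν))) 0))
    (M : Type) [AddCommGroup M] [Finite M] : Function.Injective (EtCore.Hpull i (EtCoh.const X M) 0) := by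
  classical
  obtain ⟨ι₀, _, p, hp, e, ⟨ε⟩⟩ := AddCommGroup.equiv_directSum_zmod_of_finite M
  let π : ∀ j, M →+ ZMod (p j ^ e j) := fun j => (DFinsupp.evalAddMonoidHom j).comp ε.toAddMonoidHom
  let κ : ∀ j, ZMod (p j ^ e j) →+ M := fun j => ε.symm.toAddMonoidHom.comp (DirectSum.of (fun j => ZMod (p j ^ e j)) j)
  have hid : ∑ j, liftHom.{u} (π j) ≫ liftHom (κ j) = 𝟙 _ := by
    refine ConcreteCategory.hom_ext _ _ fun m => (hom_sum_apply _ _ m).trans ?_
    obtain ⟨m⟩ := m
    refine ULift.ext _ _ (ε.injective ?_)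
    refine Eq.trans (congrArg ε (map_sum (AddEquiv.ulift : ULift.{u + 1} M ≃+ M) _ _)) ?_
    rw [map_sum]
    refine Eq.trans ?_ (DirectSum.sum_univ_of (ε m))
    exact Finset.sum_congr rfl fun j _ => ε.apply_symm_apply _
  haveI := const_additive X
  haveI := L28.CurveCd.HF_additive X 0
  refine (injective_iff_map_eq_zero _).2 fun c hc => ?_
  have h0 : ∀ j, (EtCoh.HF X 0).map (cMap X (π j)) c = 0 := fun j => by
    refine h (p j) (e j) (hp j) ?_
    refine (Hpull_map i (cMap X (π j)) 0 c).trans ((congrArg _ hc).trans ?_)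
    exact (map_zero ((EtCoh.HF Z 0).map ((EtCoh.pull i).map (cMap X (π j)))).hom).trans (map_zero _).symm
  have e' : ∑ j, cMap X (π j) ≫ cMap X (κ j) = 𝟙 (EtCoh.const X M) := by
    simp only [cMap, ← Functor.map_comp, ← Functor.map_sum, hid, CategoryTheory.Functor.map_id]
  have := congrArg (fun φ => (EtCoh.HF X 0).map φ c) e'
  simp only [Functor.map_sum, CategoryTheory.Functor.map_id] at this
  refine (this.trans rfl).symm.trans ((hom_sum_apply _ _ _).trans (Finset.sum_eq_zero fun j _ => ?_))
  exact (HF_map_comp (cMap X (π j)) (cMap X (κ j)) 0 c).trans ((congrArg _ (h0 j)).trans (map_zero _))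

theorem injective_push {X' : Scheme.{u}} (p : X' ⟶ X) [IsFinite p]
    [PreservesFiniteLimits (EtCoh.pull (pullback.fst p i))] (K : EtCoh.Ab X') (q : ℕ)
    (h : Function.Injective (EtCore.Hpull (pullback.fst p i) K q)) :
    Function.Injective (EtCore.Hpull i ((EtCoh.push p).obj K) q) := by
  let p' := pullback.snd p i
  let i' := pullback.fst p i
  haveI := EtSite.preservesFiniteLimits_pull p
  haveI := EtSite.preservesFiniteLimits_pull p'
  haveI := Groth.Agent.S0621.result p i p' i' (IsPullback.of_hasPullback p i) K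
  have hp : Function.Bijective (EtLim.HofPush p K q) := EtSite.bijective_HofPush p K
    (fun s hs => EtSite.isZero_Rpush_of_propB p (EtSite.propB_of_isIntegralHom p) _ s hs) q
  intro a b hab
  refine hp.1 (h ?_)
  have e := fun x => Groth.Agent.S14389.result p i p' i' pullback.condition K q x
  exact (e a).trans ((congrArg (fun z => EtLim.HofPush p' ((EtCoh.pull i').obj K) q
    ((EtCoh.HF Z q).map (EtCoh.baseChange0 p i p' i' pullback.condition K) z)) hab).trans (e b).symm)

/-- Degree zero comparison from finite covers with constant coefficients. -/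
theorem bijective_zero [CompactSpace X] [QuasiSeparatedSpace X] [CompactSpace Z] [QuasiSeparatedSpace Z]
    (hb : ∀ (X' : Scheme.{u}) (p : X' ⟶ X) [IsFinite p] (M : Type) [AddCommGroup M] [Finite M]
      [PreservesFiniteLimits (EtCoh.pull (pullback.fst p i))],
      Function.Bijective (EtCore.Hpull (pullback.fst p i) (EtCoh.const X' M) 0))
    (F : EtCoh.Ab X) (hF : EtCoh.IsTorsion F) : Function.Bijective (EtCore.Hpull i F 0) := by
  haveI : (EtCoh.pull i).Additive := (EtCoh.pullPushAdj i).left_adjoint_additive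
  haveI := L28.CurveCd.HF_additive Z 0
  haveI := L28.CurveCd.HF_additive X 0
  have hsum : ∀ (m : ℕ) (P : Fin m → EtCoh.Ab X), (∀ k, Function.Bijective (EtCore.Hpull i (P k) 0)) →
      Function.Bijective (EtCore.Hpull i (⨁ P) 0) := by
    intro m P hP
    have eX : ∀ a : EtCoh.H X (⨁ P) 0,
        ∑ k, (EtCoh.HF X 0).map (biproduct.ι P k) ((EtCoh.HF X 0).map (biproduct.π P k) a) = a := fun a => by
      have := congrArg (fun φ => (EtCoh.HF X 0).map φ a) (IsBilimit.total (biproduct.isBilimit P))
      simp only [Functor.map_sum, CategoryTheory.Functor.map_id] at this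
      refine Eq.trans ?_ (((hom_sum_apply _ _ _).symm.trans this).trans rfl)
      exact Finset.sum_congr rfl fun k _ => (HF_map_comp (biproduct.π P k) (biproduct.ι P k) 0 a).symm
    refine ⟨(injective_iff_map_eq_zero _).2 fun a ha => ?_, fun c => ?_⟩
    · rw [← eX a]
      refine Finset.sum_eq_zero fun k _ => ?_
      rw [show (EtCoh.HF X 0).map (biproduct.π P k) a = 0 from
        (hP k).1 (((Hpull_map i (biproduct.π P k) 0 a).trans ((congrArg _ ha).trans (map_zero _))).trans (map_zero _).symm)]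
      exact map_zero _
    · choose y hy using fun k => (hP k).2 ((EtCoh.HF Z 0).map ((EtCoh.pull i).map (biproduct.π P k)) c)
      refine ⟨∑ k, (EtCoh.HF X 0).map (biproduct.ι P k) (y k), ?_⟩
      rw [map_sum]
      have e : ∑ k, (EtCoh.pull i).map (biproduct.π P k) ≫ (EtCoh.pull i).map (biproduct.ι P k) =
          𝟙 ((EtCoh.pull i).obj (⨁ P)) := by
        rw [← CategoryTheory.Functor.map_id, ← IsBilimit.total (biproduct.isBilimit P), Functor.map_sum]
        simp
      have := congrArg (fun φ => (EtCoh.HF Z 0).map φ c) e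
      simp only [Functor.map_sum, CategoryTheory.Functor.map_id] at this
      refine Eq.trans ?_ (((hom_sum_apply _ _ _).symm.trans this).trans rfl)
      exact Finset.sum_congr rfl fun k _ => (Hpull_map i (biproduct.ι P k) 0 (y k)).trans
        ((congrArg _ (hy k)).trans (HF_map_comp _ _ 0 c).symm)
  have hinjC : ∀ C : EtCoh.Ab X, EtPBC.IsConstructible C → Function.Injective (EtCore.Hpull i C 0) := by
    intro C hC
    obtain ⟨m, Y, p, hp, -, M, hM1, hM2, ι, hι⟩ := L27.EmbedFinitePush.exists_embedding hC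
    haveI := hι
    intro a b hab
    refine injective_HF_zero_of_mono ι ((hsum m _ fun k => ?_).1 ?_)
    · haveI := hp k
      haveI := EtSite.preservesFiniteLimits_pull (pullback.fst (p k) i)
      exact ⟨injective_push i (p k) _ 0 (hb (Y k) (p k) (M k)).1,
        exists_preimage_push i (p k) _ 0 (hb (Y k) (p k) (M k)).2⟩
    · rw [Hpull_map, Hpull_map, hab]
  haveI : PreservesColimitsOfSize.{u + 1, u + 1} (EtCoh.pull i) :=
    (EtCoh.pullPushAdj i).leftAdjoint_preservesColimits
  have hinj : ∀ (G : EtCoh.Ab X), EtCoh.IsTorsion G → Function.Injective (EtCore.Hpull i G 0) := by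
    intro G hG
    obtain ⟨hc⟩ := L28.ExtShriek.isColimit_presCocone (F := G) hG
    have cX := L28.ColimBig.commutes Colim.good (EtCore.topIsTerminal X) ⟨‹_›, ‹_›⟩ 0
      (L28.ExtShriek.presDiag G) (L28.ExtShriek.presCocone G) hc
    have cZ := L28.ColimBig.commutes Colim.good (EtCore.topIsTerminal Z) ⟨‹_›, ‹_›⟩ 0
      (L28.ExtShriek.presDiag G ⋙ EtCoh.pull i) ((EtCoh.pull i).mapCocone (L28.ExtShriek.presCocone G))
      (isColimitOfPreserves (EtCoh.pull i) hc)
    refine (injective_iff_map_eq_zero _).2 fun a ha => ?_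
    obtain ⟨j, η, rfl⟩ := cX.1 a
    rw [← HF_map_eq, Hpull_map, HF_map_eq] at ha
    obtain ⟨k, f, hf⟩ := cZ.2 j _ ha
    have h0 : Sheaf.H.map ((L28.ExtShriek.presDiag G).map f) 0 η = 0 := by
      refine hinjC _ k.1.isConstructible_obj ?_
      exact ((congrArg (EtCore.Hpull i _ 0) (HF_map_eq _ 0 η).symm).trans ((Hpull_map i _ 0 η).trans
        ((HF_map_eq _ 0 _).trans hf))).trans (map_zero _).symm
    rw [← (L28.ExtShriek.presCocone G).w f, Sheaf.H.map_comp_apply]
    exact (congrArg _ h0).trans (map_zero _)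
  refine ⟨hinj F hF, fun ξ => ?_⟩
  obtain ⟨hc⟩ := L28.ExtShriek.isColimit_presCocone (F := F) hF
  obtain ⟨j, η, rfl⟩ := (L28.ColimBig.commutes Colim.good (EtCore.topIsTerminal Z) ⟨‹_›, ‹_›⟩ 0
      (L28.ExtShriek.presDiag F ⋙ EtCoh.pull i) ((EtCoh.pull i).mapCocone (L28.ExtShriek.presCocone F))
      (isColimitOfPreserves (EtCoh.pull i) hc)).1 ξ
  obtain ⟨m, Y, p, hp, -, M, hM1, hM2, ι, hι⟩ := L27.EmbedFinitePush.exists_embedding (F := j.1.obj) j.1.isConstructible_obj
  haveI := hι
  let P : Fin m → EtCoh.Ab X := fun k => (EtCoh.push (p k)).obj (EtCoh.const (Y k) (M k))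
  have hPb := hsum m P fun k => by
    haveI := hp k
    haveI := EtSite.preservesFiniteLimits_pull (pullback.fst (p k) i)
    exact ⟨injective_push i (p k) _ 0 (hb (Y k) (p k) (M k)).1,
      exists_preimage_push i (p k) _ 0 (hb (Y k) (p k) (M k)).2⟩
  obtain ⟨y, hy⟩ := hPb.2 ((EtCoh.HF Z 0).map ((EtCoh.pull i).map ι) η)
  let E := ShortComplex.mk ι (cokernel.π ι) (cokernel.condition ι)
  have hE : E.ShortExact := { exact := ShortComplex.exact_of_g_is_cokernel _ (cokernelIsCokernel ι) }
  have hPt : EtAcyc.IsLTorsion Set.univ (⨁ P) := exists_effacement_of_surjective.isLTorsion_biproduct P fun k => by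
    haveI := hp k
    exact CompTransfer.isLTorsion_push Set.univ (p k)
      (AffineEfface.isLTorsion_univ (isTorsion_const (Y k) (M k)))
  have hQ : EtCoh.IsTorsion (cokernel ι) :=
    AffineEfface.isTorsion_of_isLTorsion (CompTransfer.isLTorsion_of_epi (cokernel.π ι) hPt)
  have h0 : (EtCoh.HF X 0).map (cokernel.π ι) y = 0 := by
    refine hinj _ hQ ?_
    refine ((Hpull_map i (cokernel.π ι) 0 y).trans ((congrArg _ hy).trans
      ((HF_map_comp _ _ 0 η).symm.trans ?_))).trans (map_zero _).symm
    have e0 : (EtCoh.pull i).map ι ≫ (EtCoh.pull i).map (cokernel.π ι) = 0 := by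
      rw [← Functor.map_comp, cokernel.condition, Functor.map_zero]
    refine (congrArg (fun φ => (EtCoh.HF Z 0).map φ η) e0).trans ?_
    exact congrArg (fun φ : (EtCoh.HF Z 0).obj _ ⟶ _ => φ η) ((EtCoh.HF Z 0).map_zero _ _)
  obtain ⟨x, hx⟩ := exists_HF_preimage hE 0 y h0
  refine ⟨(EtCoh.HF X 0).map ((L28.ExtShriek.presCocone F).ι.app j) x, ?_⟩
  rw [Hpull_map]
  refine Eq.trans (congrArg _ (injective_HF_zero_of_mono ((EtCoh.pull i).map ι) ?_)) (HF_map_eq _ _ _)
  rw [← hy, ← hx]
  exact (Hpull_map i ι 0 x).symm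

end Groth.L28.FinCovCrit
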